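import Groth.Agent.Lib.Cohom.DimShift
import Mathlib.Algebra.Homology.HomologySequenceLemmas
import Mathlib.Algebra.Category.Grp.Abelian
import Mathlib.Algebra.Homology.ShortComplex.Ab

/-!
# Comparing `Ext` groups with the homology of a functor to complexes by dimension shifting

`K : C ⥤ CochainComplex Ab ℕ` with a natural bijection `Hom(A, F) ≃ H⁰(K F)` has natural isomorphisms
`Ext^n(A, F) ≃ H^n(K F)` on any class of objects stable under cokernels into injectives on which `K`
is exact, when `K` of an injective has no higher homology.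
-/

set_option autoImplicit false

universe u v w

open CategoryTheory CategoryTheory.Limits Abelian

namespace GrothLib.CechNat

variable {C : Type w} [Category.{v} C] [Abelian C] [HasExt.{u} C]
  (K : C ⥤ CochainComplex AddCommGrpCat.{u} ℕ)

/-- A natural family of comparisons `Ext^n(A, F) ≃ H^n(K F)` on the class `P`. -/
structure Comparison (A : C) (P : C → Prop) (n : ℕ) where
  /-- The isomorphisms. -/
  equiv : ∀ F, P F → (Ext.{u} A F n ≃+ (K.obj F).homology n)
  naturality : ∀ {F F' : C} (φ : F ⟶ F') (hF : P F) (hF' : P F') (x : Ext.{u} A F n),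
    equiv F' hF' (x.comp (Ext.mk₀ φ) (add_zero n)) =
      HomologicalComplex.homologyMap (K.map φ) n (equiv F hF x)

variable [EnoughInjectives C] [K.PreservesZeroMorphisms] (A : C) (P : C → Prop)

/-- The comparison in all degrees from degree zero. -/
theorem nonempty_comparison (hinj : ∀ I : C, Injective I → P I)
    (hP : ∀ S : ShortComplex C, S.ShortExact → Injective S.X₂ → P S.X₁ →
      P S.X₃ ∧ (S.map K).ShortExact)
    (hI : ∀ I : C, Injective I → ∀ n, IsZero ((K.obj I).homology (n + 1)))
    (e : ∀ F, (A ⟶ F) ≃+ (K.obj F).homology 0)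
    (he : ∀ {F F' : C} (φ : F ⟶ F') (a : A ⟶ F),
      e F' (a ≫ φ) = HomologicalComplex.homologyMap (K.map φ) 0 (e F a)) (n : ℕ) :
    Nonempty (Comparison.{u} K A P n) := by
  induction n with
  | zero =>
    refine ⟨⟨fun F _ ↦ Ext.addEquiv₀.trans (e F), fun {F F'} φ _ _ x ↦ ?_⟩⟩
    obtain ⟨a, rfl⟩ := (Ext.mk₀_bijective _ _).surjective x
    have h₀ : ∀ (F : C) (a : A ⟶ F), (Ext.addEquiv₀.trans (e F)) (Ext.mk₀ a) = e F a :=
      fun F a ↦ congrArg (e F) (Ext.addEquiv₀.apply_symm_apply a)
    rw [Ext.mk₀_comp_mk₀, h₀, h₀, he]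
  | succ n ih =>
    obtain ⟨c⟩ := ih
    let S (F : C) : ShortComplex C :=
      ShortComplex.mk (Injective.ι F) (cokernel.π (Injective.ι F)) (cokernel.condition _)
    have hS (F : C) : (S F).ShortExact := { exact := ShortComplex.exact_cokernel _ }
    have hSi (F : C) : Injective (S F).X₂ := inferInstanceAs (Injective (Injective.under F))
    have hS₃ (F : C) (hF : P F) : P (S F).X₃ := (hP (S F) (hS F) (hSi F) hF).1
    have hS' (F : C) (hF : P F) : ((S F).map K).ShortExact := (hP (S F) (hS F) (hSi F) hF).2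
    let δ (F : C) : Ext.{u} A (S F).X₃ n →+ Ext.{u} A F (n + 1) :=
      (hS F).extClass.postcomp A rfl
    let δ' (F : C) (hF : P F) : (K.obj (S F).X₃).homology n →+ (K.obj F).homology (n + 1) :=
      ((hS' F hF).δ n (n + 1) rfl).hom
    have hδ (F : C) : Function.Surjective (δ F) := fun x ↦ by
      obtain ⟨y, hy⟩ := Ext.covariant_sequence_exact₁ A (hS F) x
        (have := hSi F; Ext.eq_zero_of_injective _) rfl
      exact ⟨y, hy⟩
    have hδ' (F : C) (hF : P F) : Function.Surjective (δ' F hF) := by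
      have : Epi ((hS' F hF).δ n (n + 1) rfl) :=
        ((hS' F hF).homology_exact₁ n (n + 1) rfl).epi_f ((hI _ (hSi F) n).eq_of_tgt _ _)
      exact (AddCommGrpCat.epi_iff_surjective _).1 this
    have hker (F : C) (hF : P F) (x : Ext.{u} A (S F).X₃ n) :
        δ F x = 0 ↔ δ' F hF (c.equiv _ (hS₃ F hF) x) = 0 := by
      constructor <;> intro h
      · obtain ⟨z, rfl⟩ := Ext.covariant_sequence_exact₃ A (hS F) x rfl h
        rw [c.naturality (S F).g (hinj _ (hSi F))]
        exact ConcreteCategory.congr_hom ((hS' F hF).comp_δ n (n + 1) rfl) _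
      · obtain ⟨z, hz⟩ := (ShortComplex.ab_exact_iff _).1 ((hS' F hF).homology_exact₃ n (n + 1) rfl)
          (c.equiv _ (hS₃ F hF) x) h
        obtain ⟨z, rfl⟩ := (c.equiv _ (hinj _ (hSi F))).surjective z
        have hz' : HomologicalComplex.homologyMap (K.map (S F).g) n (c.equiv _ (hinj _ (hSi F)) z) =
            c.equiv _ (hS₃ F hF) x := hz
        rw [← c.naturality (S F).g (hinj _ (hSi F)) (hS₃ F hF)] at hz'
        obtain rfl := (c.equiv _ _).injective hz'
        exact DimShift.connecting_comp_eq_zero (hS F) A _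
    choose E hE using fun F hF ↦
      DimShift.exists_equiv_of_ker (δ F) (hδ F) (δ' F hF) (hδ' F hF) (c.equiv _ (hS₃ F hF)) (hker F hF)
    refine ⟨⟨E, fun {F F'} φ hF hF' x ↦ ?_⟩⟩
    obtain ⟨y, rfl⟩ := hδ F x
    have := (hS F).mono_f
    have := hSi F'
    have hι : φ ≫ (S F').f = (S F).f ≫ Injective.factorThru (φ ≫ (S F').f) (S F).f :=
      (Injective.comp_factorThru _ _).symm
    let χ : (S F).X₃ ⟶ (S F').X₃ :=
      cokernel.map _ _ φ (Injective.factorThru (φ ≫ (S F').f) (S F).f) hι.symm
    let α : S F ⟶ S F' :=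
      { τ₁ := φ
        τ₂ := Injective.factorThru (φ ≫ (S F').f) (S F).f
        τ₃ := χ
        comm₁₂ := hι
        comm₂₃ := (cokernel.π_desc _ _ _).symm }
    have h₁ : (δ F y).comp (Ext.mk₀ φ) (add_zero (n + 1)) =
        δ F' (y.comp (Ext.mk₀ χ) (add_zero n)) :=
      DimShift.connecting_naturality (hS F) (hS F') α A y
    have h₂ : HomologicalComplex.homologyMap (K.map φ) (n + 1) (δ' F hF (c.equiv _ (hS₃ F hF) y)) =
        δ' F' hF' (HomologicalComplex.homologyMap (K.map χ) n (c.equiv _ (hS₃ F hF) y)) :=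
      ConcreteCategory.congr_hom (HomologicalComplex.HomologySequence.δ_naturality
        (K.mapShortComplex.map α) (hS' F hF) (hS' F' hF') n (n + 1) rfl) _
    rw [hE F hF, h₂, h₁, hE F' hF', c.naturality χ (hS₃ F hF) (hS₃ F' hF')]

end GrothLib.CechNat
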