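import Groth.Agent.Lib.CechNat.DimShift
import Groth.Agent.Lib.Cech.Opens
import Groth.Agent.Lib.Cohom.Basic

/-!
# Natural comparison of Cech cohomology with cohomology
-/

set_option autoImplicit false

universe u

open CategoryTheory CategoryTheory.Limits Opposite TopologicalSpace Abelian GrothLib.SheafCoh

namespace GrothLib.CechNat

variable {X : TopCat.{u}} {ι : Type u} (U : ι → Opens X)

/-- The Cech complex of a family of opens, as a functor on abelian sheaves. -/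
noncomputable abbrev cxO :
    Sheaf (Opens.grothendieckTopology X) AddCommGrpCat.{u} ⥤ CochainComplex AddCommGrpCat.{u} ℕ :=
  Cech.cxFun (𝟭 (Opens X)) U (Opens.grothendieckTopology X)

instance preservesZeroMorphisms_cxO : (cxO U).PreservesZeroMorphisms := ⟨fun F G => by
  refine HomologicalComplex.hom_ext _ _ fun n => ConcreteCategory.hom_ext _ _ fun x =>
    Cech.extS (𝟭 (Opens X)) U fun a => ?_
  refine (Cech.ev_map (𝟭 (Opens X)) U (0 : F ⟶ G) a x).trans ?_
  exact (map_zero _).symm⟩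

/-- Čech cohomology of a covering with acyclic intersections is cohomology, naturally. -/
theorem exists_natural_equiv (hU : iSup U = ⊤) (n : ℕ) :
    ∃ e : ∀ F : Sheaf (Opens.grothendieckTopology X) AddCommGrpCat.{u},
        Cech.Acyc (𝟭 (Opens X)) U F → (Sheaf.H F n ≃+ ((cxO U).obj F).homology n),
      ∀ {F F' : Sheaf (Opens.grothendieckTopology X) AddCommGrpCat.{u}} (φ : F ⟶ F')
        (hF : Cech.Acyc (𝟭 (Opens X)) U F) (hF' : Cech.Acyc (𝟭 (Opens X)) U F') (x : Sheaf.H F n),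
        e F' hF' (Sheaf.H.map φ n x) = HomologicalComplex.homologyMap ((cxO U).map φ) n (e F hF x) := by
  let π : ∀ i, U i ⟶ (⊤ : Opens X) := fun i => homOfLE le_top
  have hπ : ∀ (W : Opens X) (i k : ι) (f : W ⟶ U i) (g : W ⟶ U k),
      (𝟭 (Opens X)).map f ≫ π i = (𝟭 (Opens X)).map g ≫ π k := fun _ _ _ _ _ => Subsingleton.elim _ _
  have hcov : Sieve.ofArrows (fun i => (𝟭 (Opens X)).obj (U i)) π ∈ Opens.grothendieckTopology X ⊤ :=
    fun x hx => by
      obtain ⟨i, hi⟩ := Opens.mem_iSup.1 (hU.ge hx)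
      exact ⟨U i, homOfLE le_top, ⟨U i, 𝟙 _, homOfLE le_top, ⟨i⟩, Category.id_comp _⟩, hi⟩
  have hlift : ∀ (Z : Opens X) (i k : ι) (g₁ : Z ⟶ U i) (g₂ : Z ⟶ U k), g₁ ≫ π i = g₂ ≫ π k →
      ∃ (W : Opens X) (f : W ⟶ U i) (g : W ⟶ U k) (l : Z ⟶ W), l ≫ f = g₁ ∧ l ≫ g = g₂ :=
    fun Z _ _ g₁ g₂ _ => ⟨Z, g₁, g₂, 𝟙 Z, Subsingleton.elim _ _, Subsingleton.elim _ _⟩
  let A := freeY (Opens.grothendieckTopology X) (⊤ : Opens X)
  obtain ⟨c⟩ := nonempty_comparison.{u} (cxO U) A (Cech.Acyc (𝟭 (Opens X)) U)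
    (fun I hI m a q => Ext.subsingleton_of_injective _ _ _)
    (fun S hS hI h => ⟨fun m a q => @Equiv.subsingleton _ _
        (extShift hS (q + 1) (Ext.subsingleton_of_injective _ _ _)
          (Ext.subsingleton_of_injective _ _ _)).toEquiv (h m a (q + 1)),
      Cech.cxShort_shortExact (𝟭 (Opens X)) U hS h⟩)
    (fun I hI m => Cech.isZero_cechH_injective U I (hI := hI) m)
    (fun F => (homFreeY F (⊤ : Opens X)).trans
      (Cech.zeroEquiv (𝟭 (Opens X)) U π hπ hcov hlift F))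
    (fun {F F'} φ a => ConcreteCategory.congr_hom
      (Cech.augH_naturality (𝟭 (Opens X)) U π hπ φ) (homFreeY F ⊤ a)) n
  refine ⟨fun F hF => (Cohom.HEquivTop F n).trans (c.equiv F hF), fun {F F'} φ hF hF' x => ?_⟩
  refine Eq.trans ?_ (c.naturality φ hF hF' (Cohom.HEquivTop F n x))
  refine congrArg (c.equiv F' hF') ?_
  exact (Ext.comp_assoc_of_third_deg_zero _ x (Ext.mk₀ φ) (zero_add n)).symm

end GrothLib.CechNat
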